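import Cfsg.Agent.Spor.Prim
import Cfsg.Agent.Spor.An12.Main
import Cfsg.Agent.Spor.An12.L.C0
import Cfsg.Agent.Spor.TT2

set_option autoImplicit false
set_option maxRecDepth 100000000
set_option Elab.async false

namespace Cfsg.Agent.Spor.An12.L

theorem hU : U.Ok 4 := U.ok_of 4 (show AllP (fun n => Net.okb 4 n = true) [n0, n1, n2, n3, n4, n5, n6, n7, n8, n9] from AllP.cons ok0 (AllP.cons ok1 (AllP.cons ok2 (AllP.cons ok3 (AllP.cons ok4 (AllP.cons ok5 (AllP.cons ok6 (AllP.cons ok7 (AllP.cons ok8 (AllP.cons ok9 (AllP.nil)))))))))))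

theorem hfP : ∀ j < 10, U.fP [1, 3, 5, 7, 9, 11, 13, 15, 17, 19] j = fP j := by
  intro j hj
  interval_cases j <;> rfl
theorem eG : gsub 10 fP = U.lsub W1 := (gsub_congr hfP).symm.trans (lsub_eq_gsub U [1, 3, 5, 7, 9, 11, 13, 15, 17, 19])
theorem upz1 : ev (atm 10 fP) [0] = U.τ 1 := pz1
theorem upz3 : ev (atm 10 fP) [2] = U.τ 3 := pz2
theorem upz5 : ev (atm 10 fP) [4] = U.τ 5 := pz3
theorem upz7 : ev (atm 10 fP) [6] = U.τ 7 := pz4
theorem upz9 : ev (atm 10 fP) [8] = U.τ 9 := pz5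
theorem upz11 : ev (atm 10 fP) [10] = U.τ 11 := pz6
theorem upz13 : ev (atm 10 fP) [12] = U.τ 13 := pz7
theorem upz15 : ev (atm 10 fP) [14] = U.τ 15 := pz8
theorem upz17 : ev (atm 10 fP) [16] = U.τ 17 := pz9
theorem upz19 : ev (atm 10 fP) [18] = U.τ 19 := pz10
theorem eH : wsub 10 fP BW = U.lsub W2 :=
  lsub_eq_of_all₂ (show List.Forall₂ _ [[0], [2], [4], [6], [8], [10], [12], [14], [16]] [[1], [3], [5], [7], [9], [11], [13], [15], [17]] from List.Forall₂.cons (upz1.trans (one_mul _).symm) (List.Forall₂.cons (upz3.trans (one_mul _).symm) (List.Forall₂.cons (upz5.trans (one_mul _).symm) (List.Forall₂.cons (upz7.trans (one_mul _).symm) (List.Forall₂.cons (upz9.trans (one_mul _).symm) (List.Forall₂.cons (upz11.trans (one_mul _).symm) (List.Forall₂.cons (upz13.trans (one_mul _).symm) (List.Forall₂.cons (upz15.trans (one_mul _).symm) (List.Forall₂.cons (upz17.trans (one_mul _).symm) (List.Forall₂.nil))))))))))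
theorem vpz1 : PZ U (atm 10 fP) EXU 1 := pz1
theorem vpz2 : PZ U (atm 10 fP) EXU 2 := PZ.of_inv hiv vpz1 (by decide +kernel)
theorem vpz3 : PZ U (atm 10 fP) EXU 3 := pz2
theorem vpz4 : PZ U (atm 10 fP) EXU 4 := PZ.of_inv hiv vpz3 (by decide +kernel)
theorem vpz5 : PZ U (atm 10 fP) EXU 5 := pz3
theorem vpz6 : PZ U (atm 10 fP) EXU 6 := PZ.of_inv hiv vpz5 (by decide +kernel)
theorem vpz7 : PZ U (atm 10 fP) EXU 7 := pz4
theorem vpz8 : PZ U (atm 10 fP) EXU 8 := PZ.of_inv hiv vpz7 (by decide +kernel)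
theorem vpz9 : PZ U (atm 10 fP) EXU 9 := pz5
theorem vpz10 : PZ U (atm 10 fP) EXU 10 := PZ.of_inv hiv vpz9 (by decide +kernel)
theorem vpz11 : PZ U (atm 10 fP) EXU 11 := pz6
theorem vpz12 : PZ U (atm 10 fP) EXU 12 := PZ.of_inv hiv vpz11 (by decide +kernel)
theorem vpz13 : PZ U (atm 10 fP) EXU 13 := pz7
theorem vpz14 : PZ U (atm 10 fP) EXU 14 := PZ.of_inv hiv vpz13 (by decide +kernel)
theorem vpz15 : PZ U (atm 10 fP) EXU 15 := pz8
theorem vpz16 : PZ U (atm 10 fP) EXU 16 := PZ.of_inv hiv vpz15 (by decide +kernel)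
theorem vpz17 : PZ U (atm 10 fP) EXU 17 := pz9
theorem vpz18 : PZ U (atm 10 fP) EXU 18 := PZ.of_inv hiv vpz17 (by decide +kernel)
theorem vpz19 : PZ U (atm 10 fP) EXU 19 := pz10
theorem vpz20 : PZ U (atm 10 fP) EXU 20 := PZ.of_inv hiv vpz19 (by decide +kernel)
theorem hPZU : AllP (PZ U (atm 10 fP) EXU) LU :=
  show AllP (PZ U (atm 10 fP) EXU) [1, 2, 3, 4, 5, 6, 7, 8, 9, 10, 11, 12, 13, 14, 15, 16, 17, 18, 19, 20] from AllP.cons vpz1 (AllP.cons vpz2 (AllP.cons vpz3 (AllP.cons vpz4 (AllP.cons vpz5 (AllP.cons vpz6 (AllP.cons vpz7 (AllP.cons vpz8 (AllP.cons vpz9 (AllP.cons vpz10 (AllP.cons vpz11 (AllP.cons vpz12 (AllP.cons vpz13 (AllP.cons vpz14 (AllP.cons vpz15 (AllP.cons vpz16 (AllP.cons vpz17 (AllP.cons vpz18 (AllP.cons vpz19 (AllP.cons vpz20 (AllP.nil))))))))))))))))))))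
theorem reach4 : Reach (U.lsub W1) 0 0xfff := (Reach.grow hU (Reach.base _ 0) gr3)
theorem orb7 : (orbS (U.lsub W1) 0).ncard = 12 := reach4.ncard hU cl5 sz6
theorem orb7e : orbS (U.lsub W1) 0 = {c | Nat.testBit 0xfff c = true} := reach4.orb hU cl5
theorem reach10 : Reach (U.lsub W2) 11 0xffe := (Reach.grow hU (Reach.base _ 11) gr9)
theorem orb13 : (orbS (U.lsub W2) 11).ncard = 11 := reach10.ncard hU cl11 sz12
theorem orb13e : orbS (U.lsub W2) 11 = {c | Nat.testBit 0xffe c = true} := reach10.orb hU cl11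
theorem reach17 : Reach (U.lsub W14) 10 0x7fe := (Reach.grow hU (Reach.base _ 10) gr16)
theorem orb20 : (orbS (U.lsub W14) 10).ncard = 10 := reach17.ncard hU cl18 sz19
theorem orb20e : orbS (U.lsub W14) 10 = {c | Nat.testBit 0x7fe c = true} := reach17.orb hU cl18
theorem reach24 : Reach (U.lsub W21) 9 0x3fe := (Reach.grow hU (Reach.base _ 9) gr23)
theorem orb27 : (orbS (U.lsub W21) 9).ncard = 9 := reach24.ncard hU cl25 sz26
theorem orb27e : orbS (U.lsub W21) 9 = {c | Nat.testBit 0x3fe c = true} := reach24.orb hU cl25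
theorem reach31 : Reach (U.lsub W28) 8 0x1fe := (Reach.grow hU (Reach.base _ 8) gr30)
theorem orb34 : (orbS (U.lsub W28) 8).ncard = 8 := reach31.ncard hU cl32 sz33
theorem orb34e : orbS (U.lsub W28) 8 = {c | Nat.testBit 0x1fe c = true} := reach31.orb hU cl32
theorem reach38 : Reach (U.lsub W35) 7 0xfe := (Reach.grow hU (Reach.base _ 7) gr37)
theorem orb41 : (orbS (U.lsub W35) 7).ncard = 7 := reach38.ncard hU cl39 sz40
theorem orb41e : orbS (U.lsub W35) 7 = {c | Nat.testBit 0xfe c = true} := reach38.orb hU cl39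
theorem reach45 : Reach (U.lsub W42) 6 0x7e := (Reach.grow hU (Reach.base _ 6) gr44)
theorem orb48 : (orbS (U.lsub W42) 6).ncard = 6 := reach45.ncard hU cl46 sz47
theorem orb48e : orbS (U.lsub W42) 6 = {c | Nat.testBit 0x7e c = true} := reach45.orb hU cl46
theorem reach52 : Reach (U.lsub W49) 5 0x3e := (Reach.grow hU (Reach.base _ 5) gr51)
theorem orb55 : (orbS (U.lsub W49) 5).ncard = 5 := reach52.ncard hU cl53 sz54
theorem orb55e : orbS (U.lsub W49) 5 = {c | Nat.testBit 0x3e c = true} := reach52.orb hU cl53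
theorem reach59 : Reach (U.lsub W56) 4 0x1e := (Reach.grow hU (Reach.base _ 4) gr58)
theorem orb62 : (orbS (U.lsub W56) 4).ncard = 4 := reach59.ncard hU cl60 sz61
theorem orb62e : orbS (U.lsub W56) 4 = {c | Nat.testBit 0x1e c = true} := reach59.orb hU cl60
theorem reach66 : Reach (U.lsub W63) 1 0xe := (Reach.grow hU (Reach.base _ 1) gr65)
theorem orb69 : (orbS (U.lsub W63) 1).ncard = 3 := reach66.ncard hU cl67 sz68
theorem orb69e : orbS (U.lsub W63) 1 = {c | Nat.testBit 0xe c = true} := reach66.orb hU cl67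
theorem lb70 : 3 ∣ Nat.card (U.lsub W63) := dvd_card_orb orb69
theorem lb71 : 12 ∣ Nat.card (U.lsub W56) :=
  dvd_card_step (s := 4) (M := 3) (B := U.lsub W63) (U.lsub_sub (by decide)) (hU.fixes fx64) orb62 lb70
theorem lb72 : 60 ∣ Nat.card (U.lsub W49) :=
  dvd_card_step (s := 5) (M := 12) (B := U.lsub W56) (U.lsub_sub (by decide)) (hU.fixes fx57) orb55 lb71
theorem lb73 : 360 ∣ Nat.card (U.lsub W42) :=
  dvd_card_step (s := 6) (M := 60) (B := U.lsub W49) (U.lsub_sub (by decide)) (hU.fixes fx50) orb48 lb72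
theorem lb74 : 2520 ∣ Nat.card (U.lsub W35) :=
  dvd_card_step (s := 7) (M := 360) (B := U.lsub W42) (U.lsub_sub (by decide)) (hU.fixes fx43) orb41 lb73
theorem lb75 : 20160 ∣ Nat.card (U.lsub W28) :=
  dvd_card_step (s := 8) (M := 2520) (B := U.lsub W35) (U.lsub_sub (by decide)) (hU.fixes fx36) orb34 lb74
theorem lb76 : 181440 ∣ Nat.card (U.lsub W21) :=
  dvd_card_step (s := 9) (M := 20160) (B := U.lsub W28) (U.lsub_sub (by decide)) (hU.fixes fx29) orb27 lb75
theorem lb77 : 1814400 ∣ Nat.card (U.lsub W14) :=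
  dvd_card_step (s := 10) (M := 181440) (B := U.lsub W21) (U.lsub_sub (by decide)) (hU.fixes fx22) orb20 lb76
theorem lb78 : 19958400 ∣ Nat.card (U.lsub W2) :=
  dvd_card_step (s := 11) (M := 1814400) (B := U.lsub W14) (U.lsub_sub (by decide)) (hU.fixes fx15) orb13 lb77
theorem lb : 239500800 ∣ Nat.card (U.lsub W1) :=
  dvd_card_step (s := 12) (M := 19958400) (B := U.lsub W2) (U.lsub_sub (by decide)) (hU.fixes fx8) orb7 lb78

end Cfsg.Agent.Spor.An12.L
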