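import Cfsg.Agent.Spor.Chk2
import Cfsg.Agent.Spor.An12.D0

set_option autoImplicit false
set_option maxRecDepth 100000000
set_option Elab.async false
noncomputable section

namespace Cfsg.Agent.Spor.An12.L

def W1 : List (List Nat) := [[1], [3], [5], [7], [9], [11], [13], [15], [17], [19]]

def W2 : List (List Nat) := [[1], [3], [5], [7], [9], [11], [13], [15], [17]]

def EXU : List (List Nat) := [[], [0], [1], [2], [3], [4], [5], [6], [7], [8], [9], [10], [11], [12], [13], [14], [15], [16], [17], [18], [19]]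
def LU : List Nat := [1, 2, 3, 4, 5, 6, 7, 8, 9, 10, 11, 12, 13, 14, 15, 16, 17, 18, 19, 20]

def W14 : List (List Nat) := [[1], [3], [5], [7], [9], [11], [13], [15]]

def W21 : List (List Nat) := [[1], [3], [5], [7], [9], [11], [13]]

def W28 : List (List Nat) := [[1], [3], [5], [7], [9], [11]]

def W35 : List (List Nat) := [[1], [3], [5], [7], [9]]

def W42 : List (List Nat) := [[1], [3], [5], [7]]

def W49 : List (List Nat) := [[1], [3], [5]]

def W56 : List (List Nat) := [[1], [3]]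

def W63 : List (List Nat) := [[1]]

def U : Tab := ⟨[n0, n1, n2, n3, n4, n5, n6, n7, n8, n9], [⟨0, false, 0, 0, []⟩, ⟨0, false, 0, 0, []⟩, ⟨0, true, 0, 0, []⟩, ⟨1, false, 0, 0, []⟩, ⟨1, true, 0, 0, []⟩, ⟨2, false, 0, 0, []⟩, ⟨2, true, 0, 0, []⟩, ⟨3, false, 0, 0, []⟩, ⟨3, true, 0, 0, []⟩, ⟨4, false, 0, 0, []⟩, ⟨4, true, 0, 0, []⟩, ⟨5, false, 0, 0, []⟩, ⟨5, true, 0, 0, []⟩, ⟨6, false, 0, 0, []⟩, ⟨6, true, 0, 0, []⟩, ⟨7, false, 0, 0, []⟩, ⟨7, true, 0, 0, []⟩, ⟨8, false, 0, 0, []⟩, ⟨8, true, 0, 0, []⟩, ⟨9, false, 0, 0, []⟩, ⟨9, true, 0, 0, []⟩]⟩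

end Cfsg.Agent.Spor.An12.L
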